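import Mathlib
import Cfsg.Agent.Lib.Helper69.APQ.Defs

/-!
# Project APQ (S4150): assemblies [NTASM], [M6ASM], [CT7], [CT13]
-/

set_option autoImplicit false

namespace Cfsg.Agent.Lib.Helper45.APQ

open Cfsg.Agent.Lib.Helper69.APQ Equiv

universe u

theorem pkgNT_of (hS : PkgNTSmall) (hI : PkgNTIneq) (hB : PkgNTBinom) : PkgNT := by
  intro m hm
  by_cases h4100 : m < 4100
  · exact hS m hm h4100
  push Not at h4100
  obtain ⟨n, hn⟩ : ∃ n, n = m / 2 := ⟨_, rfl⟩
  have hn2048 : 2048 ≤ n := by omega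
  have h3 : ∃ p₁ p₂ p₃ : ℕ, p₁.Prime ∧ p₂.Prime ∧ p₃.Prime ∧ n < p₁ ∧ p₁ < p₂ ∧ p₂ < p₃ ∧
      p₃ ≤ 2 * n := by
    by_contra hno
    have hno' : ∀ p₁ p₂ p₃ : ℕ, p₁.Prime → p₂.Prime → p₃.Prime → n < p₁ → p₁ < p₂ → p₂ < p₃ →
        p₃ ≤ 2 * n → False :=
      fun p₁ p₂ p₃ h1 h2 h3 h4 h5 h6 h7 => hno ⟨p₁, p₂, p₃, h1, h2, h3, h4, h5, h6, h7⟩
    have hb := hB n (by omega) hno'
    have hi := hI n hn2048
    have h4 := Nat.four_pow_lt_mul_centralBinom n (by omega)
    have h5 : n * Nat.centralBinom n ≤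
        n * ((2 * n) ^ Nat.sqrt (2 * n) * 4 ^ (2 * n / 3) * (2 * n) ^ 2) :=
      Nat.mul_le_mul_left n hb
    exact absurd (lt_of_lt_of_le h4 (h5.trans hi)) (lt_irrefl _)
  obtain ⟨p₁, p₂, p₃, hp1, hp2, hp3, h1, h2, h3', h4⟩ := h3
  have hodd : ∀ p : ℕ, p.Prime → n < p → p % 2 = 1 := by
    intro p hp hnp
    rcases hp.eq_two_or_odd with h | h
    · omega
    · exact h
  have o1 := hodd p₁ hp1 h1
  have o2 := hodd p₂ hp2 (by omega)
  have o3 := hodd p₃ hp3 (by omega)
  exact ⟨p₁, p₃, hp1, hp3, by omega, by omega, by omega⟩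

theorem apq_closure_le_alt {β : Type u} [Fintype β] [DecidableEq β] (x y : Perm β)
    (hx : x ∈ alternatingGroup β) (hy : y ∈ alternatingGroup β) :
    Subgroup.closure ({x, y} : Set (Perm β)) ≤ alternatingGroup β := by
  rw [Subgroup.closure_le]
  intro z hz
  rcases hz with rfl | rfl
  · exact hx
  · exact hy

theorem pkgM6_of (hA : PkgM6A.{u}) (hB : PkgM6B.{u}) (hC : PkgM6C.{u}) (hF : PkgFin.{u}) :
    PkgM6.{u} := by
  intro β _ _ x y h6 hx hy
  have hxA : x ∈ alternatingGroup β := by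
    rw [Equiv.Perm.mem_alternatingGroup, Equiv.Perm.sign_of_cycleType, hx]
    rfl
  have hyA : y ∈ alternatingGroup β := by
    rw [Equiv.Perm.mem_alternatingGroup, Equiv.Perm.sign_of_cycleType, hy]
    rfl
  have hle := apq_closure_le_alt x y hxA hyA
  rcases hA (Subgroup.closure ({x, y} : Set (Perm β))) h6 hle with heq | hcard
  · have hgen : Gen x y := by
      unfold Gen
      rw [heq]
    exact ⟨Fintype.card β, by omega, hF x y hxA hyA hgen⟩
  · exact ⟨5, le_refl 5, hB _ h6 (hC x y h6 hx hy) hcard⟩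

theorem apq_full_cycle {β : Type u} [Fintype β] [DecidableEq β] (y : Perm β) (q : ℕ)
    (hy : y.cycleType = {q}) (hq : Fintype.card β = q) : ∀ b : β, y b ≠ b := by
  have hsum := y.sum_cycleType
  rw [hy, Multiset.sum_singleton] at hsum
  have hsupp : y.support = Finset.univ := by
    apply Finset.eq_univ_of_card
    rw [← hsum, hq]
  intro b
  have : b ∈ y.support := by
    rw [hsupp]
    exact Finset.mem_univ b
  exact Equiv.Perm.mem_support.1 this

theorem pkgCaseT7_of (hP : PkgPrim.{u}) (hT : PkgTwin7.{u}) : PkgCaseT7.{u} := by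
  intro β _ _ x y h7 hx hy
  have hfull := apq_full_cycle y 7 hy h7
  have hprim := hP x y 7 (by norm_num) hy (by omega) (fun b => Or.inl (hfull b))
  have htr : MulAction.IsPretransitive (Subgroup.closure ({x, y} : Set (Perm β))) β :=
    hprim.toIsPretransitive
  exact hT _ h7 htr ⟨x, Subgroup.subset_closure (by simp), hx⟩

theorem pkgCaseT13_of (hP : PkgPrim.{u}) (hT : PkgTwin13.{u}) : PkgCaseT13.{u} := by
  intro β _ _ x y h13 hx hy
  have hxA : x ∈ alternatingGroup β := by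
    rw [Equiv.Perm.mem_alternatingGroup, Equiv.Perm.sign_of_cycleType, hx]
    rfl
  have hyA : y ∈ alternatingGroup β := by
    rw [Equiv.Perm.mem_alternatingGroup, Equiv.Perm.sign_of_cycleType, hy]
    rfl
  have hle := apq_closure_le_alt x y hxA hyA
  have hfull := apq_full_cycle y 13 hy h13
  have hprim := hP x y 13 (by norm_num) hy (by omega) (fun b => Or.inl (hfull b))
  have htr : MulAction.IsPretransitive (Subgroup.closure ({x, y} : Set (Perm β))) β :=
    hprim.toIsPretransitive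
  exact hT _ h13 hle htr ⟨x, Subgroup.subset_closure (by simp), hx⟩

end Cfsg.Agent.Lib.Helper45.APQ
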